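import Groth.Agent.NFHilb6.Basic
import Groth.Agent.NFlat6.Converse
import Groth.Agent.NFDim6.Basic
import Groth.Agent.QCoh.Stalk
import Groth.Agent.RegConormal.Split
import Groth.Agent.VarGeom.Normal
import Groth.Prelude.Def_Coh
import Mathlib.AlgebraicGeometry.Noetherian
import Mathlib.LinearAlgebra.TensorProduct.Pi

/-!
# The Poincaré numerator along a connected regular subscheme
-/

set_option autoImplicit false
set_option linter.style.haveILetI false
set_option backward.isDefEq.respectTransparency false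
set_option backward.isDefEq.respectTransparency.types false

universe u

open CategoryTheory AlgebraicGeometry TopologicalSpace IsLocalRing TensorProduct

namespace Groth.Agent.NFHilb6

open Groth.Agent.NFlat6

/-- The minimal number of generators of the pieces does not change under localisation. -/
theorem mu_localized {S : Type u} [CommRing S] [IsLocalRing S] [IsNoetherianRing S] (K : Ideal S)
    (hK : K ≤ maximalIdeal S) {N : Type u} [AddCommGroup N] [Module S N] [Module.Finite S N]
    (hN : EGA4.IsNormallyFlat K N) {S' : Type u} [CommRing S'] [IsLocalRing S'] [IsNoetherianRing S'] [Algebra S S']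
    (W : Submonoid S) [IsLocalization W S'] {N' : Type u} [AddCommGroup N'] [Module S' N'] [Module S N']
    [IsScalarTower S S' N'] [Module.Finite S' N'] (g : N →ₗ[S] N') [IsLocalizedModule W g] (K' : Ideal S')
    (hK' : K' = K.map (algebraMap S S')) (hK'm : K' ≤ maximalIdeal S') (i : ℕ) :
    mu (A := S') (Pc K' N' i) = mu (A := S) (Pc K N i) := by
  obtain ⟨r, ⟨e⟩⟩ := NFDim6.exists_free hK hN i
  have hr1 : ∀ (T : Type u) [CommRing T] [IsLocalRing T] [IsNoetherianRing T] (L : Ideal T), L ≤ maximalIdeal T →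
      ∀ (r : ℕ) (X : Type u) [AddCommGroup X] [Module T X] [Module.Finite T X],
        Nonempty (X ≃ₗ[T] (Fin r → T ⧸ L)) → mu (A := T) X = r := by
    intro T _ _ _ L hL r X _ _ _ ⟨e⟩
    have h1 : lq (maximalIdeal T) (T ⧸ L) = 1 := by
      rw [← lq_congr_of_ker _ (Submodule.mkQ L) (Submodule.mkQ_surjective _)
        (by rw [Submodule.ker_mkQ, smul_eq_mul, Ideal.mul_top]; exact hL)]
      unfold lq
      letI := Ideal.Quotient.field (maximalIdeal T)
      rw [(Submodule.quotEquivOfEq (maximalIdeal T • (⊤ : Submodule T T)) (maximalIdeal T)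
          (by rw [smul_eq_mul, Ideal.mul_top])).length_eq,
        Module.length_eq_of_surjective (R := T ⧸ maximalIdeal T) Ideal.Quotient.mk_surjective,
        Module.length_eq_finrank, Module.finrank_self, Nat.cast_one]
    have h2 := lq_congr (maximalIdeal T) e
    rw [lq_pi, h1, mul_one, Fintype.card_fin, lq_max] at h2
    exact_mod_cast h2
  rw [hr1 S K hK r _ ⟨e⟩]
  -- the piece over `S'` is the base change
  have hP : ∀ k, (Pw K' N' k).restrictScalars S = Pw K N' k := fun k => by
    show ((K' ^ k • ⊤ : Submodule S' N')).restrictScalars S = _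
    rw [hK', ← Ideal.map_pow, Submodule.restrictScalars_map_smul_eq, Submodule.restrictScalars_top]
  let e0 : ↥(Pw K N' i) →ₗ[S] Pc K' N' i :=
    { toFun := fun y => Submodule.Quotient.mk ⟨(y : N'), (hP i).ge y.2⟩
      map_add' := fun _ _ => rfl
      map_smul' := fun a y => by
        rw [RingHom.id_apply, ← Submodule.Quotient.mk_smul]
        rfl }
  let e1 : Pc K N' i →ₗ[S] Pc K' N' i := Submodule.liftQ _ e0 fun y hy => by
    rw [LinearMap.mem_ker]
    exact (pc_mk_eq_zero _).2 ((hP (i + 1)).ge ((mem_smul_top_iff_val y).1 hy))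
  have he1 : Function.Bijective e1 := by
    refine ⟨(injective_iff_map_eq_zero e1).2 fun z hz => ?_, fun z => ?_⟩
    · obtain ⟨y, rfl⟩ := Submodule.Quotient.mk_surjective _ z
      exact (pc_mk_eq_zero _).2 ((hP (i + 1)).le ((pc_mk_eq_zero _).1 hz))
    · obtain ⟨⟨y, hy⟩, rfl⟩ := Submodule.Quotient.mk_surjective _ z
      exact ⟨Submodule.Quotient.mk ⟨y, (hP i).le hy⟩, rfl⟩
  haveI := isLocalizedModule_pcMap (R := K) W g i
  let h : Pc K N i →ₗ[S] Pc K' N' i := (LinearEquiv.ofBijective e1 he1).toLinearMap ∘ₗ pcMap (R := K) g i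
  haveI : IsLocalizedModule W h := IsLocalizedModule.of_linearEquiv W _ _
  let E : Pc K' N' i ≃ₗ[S'] (Fin r → S' ⧸ K') :=
    ((IsLocalizedModule.isBaseChange W S' h).equiv.symm.trans (LinearEquiv.baseChange S S' _ _ e)).trans
      ((TensorProduct.piRight S S' S' (fun _ : Fin r => S ⧸ K)).trans
        (LinearEquiv.piCongrRight fun _ =>
          ((Algebra.TensorProduct.quotIdealMapEquivTensorQuot S' K).symm.toLinearEquiv).trans
            (Submodule.quotEquivOfEq _ _ hK'.symm)))
  exact hr1 S' K' hK'm r _ ⟨E⟩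

/-- A function constant along specialisations is constant on a connected locally Noetherian space. -/
theorem eq_of_specializes {Y : Scheme.{u}} [IsLocallyNoetherian Y] [ConnectedSpace Y] {β : Type*} (f : Y → β)
    (h : ∀ a b : Y, a ⤳ b → f a = f b) (a b : Y) : f a = f b := by
  refine IsLocallyConstant.apply_eq_of_isPreconnected ((IsLocallyConstant.iff_exists_open f).2 fun y => ?_)
    isPreconnected_univ (Set.mem_univ a) (Set.mem_univ b)
  obtain ⟨_, ⟨U, hU, rfl⟩, hyU, -⟩ :=
    Y.isBasis_affineOpens.exists_subset_of_mem_open (Set.mem_univ y) isOpen_univ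
  haveI : IsNoetherianRing Γ(Y, U) := IsLocallyNoetherian.component_noetherian ⟨U, hU⟩
  haveI : NoetherianSpace U := noetherianSpace_of_isAffineOpen U hU
  let y' : U := ⟨y, hyU⟩
  let T : Set (Set U) := {Z | Z ∈ irreducibleComponents U ∧ y' ∉ Z}
  have hT : IsClosed (⋃₀ T) :=
    Set.sUnion_eq_biUnion (s := T) ▸ Set.Finite.isClosed_biUnion
      (NoetherianSpace.finite_irreducibleComponents.subset fun Z hZ => hZ.1)
      fun Z hZ => isClosed_of_mem_irreducibleComponents _ hZ.1
  refine ⟨Subtype.val '' (⋃₀ T)ᶜ, U.2.isOpenMap_subtype_val _ hT.isOpen_compl,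
    ⟨y', fun ⟨Z, hZ, hyZ⟩ => hZ.2 hyZ, rfl⟩, ?_⟩
  rintro _ ⟨z, hz, rfl⟩
  have hC := irreducibleComponent_mem_irreducibleComponents z
  have hyC : y' ∈ irreducibleComponent z := by
    by_contra hy
    exact hz ⟨_, ⟨hC, hy⟩, mem_irreducibleComponent⟩
  obtain ⟨η, hη⟩ := QuasiSober.sober
    (hC.1.image (Subtype.val : U → Y) continuous_subtype_val.continuousOn).closure isClosed_closure
  have h1 : η ⤳ (z : Y) := hη.specializes (subset_closure ⟨z, mem_irreducibleComponent, rfl⟩)
  have h2 : η ⤳ y := hη.specializes (subset_closure ⟨y', hyC, rfl⟩)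
  exact (h _ _ h1).symm.trans (h _ _ h2)

variable {X : Scheme.{u}} [IsLocallyNoetherian X]

/-- The numerator at a point. -/
noncomputable def num (𝓘 : X.IdealSheafData) (F : X.Modules) (y : ↥𝓘.subscheme) (i : ℕ) : ℕ :=
  mu (A := ↑(X.presheaf.stalk (𝓘.subschemeι y)))
    (Pc (RingHom.ker (𝓘.subschemeι.stalkMap y).hom) ↑(F.presheaf.stalk (𝓘.subschemeι y)) i)

theorem ker_stalkMap_le (𝓘 : X.IdealSheafData) (y : ↥𝓘.subscheme) :
    RingHom.ker (𝓘.subschemeι.stalkMap y).hom ≤ maximalIdeal _ :=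
  IsLocalRing.le_maximalIdeal (RingHom.ker_ne_top _)

/-- The numerator is constant along specialisations. -/
theorem num_eq_of_specializes (𝓘 : X.IdealSheafData) (F : X.Modules) (hF : Coh.IsCoh F)
    (hnf : ∀ y : ↥𝓘.subscheme, EGA4.IsNormallyFlat (RingHom.ker (𝓘.subschemeι.stalkMap y).hom)
      ↑(F.presheaf.stalk (𝓘.subschemeι y))) {a b : ↥𝓘.subscheme} (hab : a ⤳ b) :
    num 𝓘 F a = num 𝓘 F b := by
  set x' := 𝓘.subschemeι a
  set x := 𝓘.subschemeι b
  have h : x' ⤳ x := hab.map 𝓘.subschemeι.continuous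
  obtain ⟨_, ⟨U, hU, rfl⟩, hxU, -⟩ :=
    X.isBasis_affineOpens.exists_subset_of_mem_open (Set.mem_univ x) isOpen_univ
  have hx'U : x' ∈ U := h.mem_open U.isOpen hxU
  let S := X.presheaf.stalk x
  let S' := X.presheaf.stalk x'
  let φ : S →+* S' := (X.presheaf.stalkSpecializes h).hom
  letI : Algebra S S' := φ.toAlgebra
  have hφ : ∀ r : Γ(X, U), φ (X.presheaf.germ U x hxU r) = X.presheaf.germ U x' hx'U r := fun r => by
    show (X.presheaf.germ U x hxU ≫ X.presheaf.stalkSpecializes h) r = _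
    rw [X.presheaf.germ_stalkSpecializes]
  let W : Submonoid S := (IsUnit.submonoid S').comap φ
  obtain ⟨W₀, hW₀⟩ := VarGeom.exists_isLocalization_stalkSpecializes h
  haveI : IsLocalization W S' := by
    haveI := hW₀
    exact IsLocalization.of_le W₀ W (fun s hs => IsLocalization.map_units S' (⟨s, hs⟩ : W₀)) fun r hr => hr
  let N := F.presheaf.stalk x
  let N' := F.presheaf.stalk x'
  letI : Module S N' := Module.compHom _ φ
  haveI : IsScalarTower S S' N' := IsScalarTower.of_algebraMap_smul fun _ _ => rfl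
  have hg0 : ∀ m : Γ(F, U), F.presheaf.stalkSpecializes h (F.presheaf.germ U x hxU m) =
      F.presheaf.germ U x' hx'U m := fun m => by
    show (F.presheaf.germ U x hxU ≫ F.presheaf.stalkSpecializes h) m = _
    rw [F.presheaf.germ_stalkSpecializes]
  let g : N →ₗ[S] N' :=
    { toFun := F.presheaf.stalkSpecializes h
      map_add' := map_add _
      map_smul' := fun r n => by
        obtain ⟨V, hV, r, rfl⟩ := X.presheaf.exists_germ_eq (x := x) r
        obtain ⟨V', hV', n, rfl⟩ := F.presheaf.exists_germ_eq (x := x) n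
        rw [← X.presheaf.germ_res_apply (homOfLE (inf_le_left : V ⊓ V' ≤ V)) x ⟨hV, hV'⟩ r,
          ← F.presheaf.germ_res_apply (homOfLE (inf_le_right : V ⊓ V' ≤ V')) x ⟨hV, hV'⟩ n,
          ← QCoh.germ_smul' F (U := V ⊓ V') ⟨hV, hV'⟩]
        show (F.presheaf.germ _ x _ ≫ F.presheaf.stalkSpecializes h) _ =
          (X.presheaf.germ _ x _ ≫ X.presheaf.stalkSpecializes h) _ • (F.presheaf.germ _ x _ ≫ F.presheaf.stalkSpecializes h) _
        rw [F.presheaf.germ_stalkSpecializes, X.presheaf.germ_stalkSpecializes]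
        exact QCoh.germ_smul' F (U := V ⊓ V') (h.mem_open (V ⊓ V').isOpen ⟨hV, hV'⟩) _ _ }
  letI := QCoh.stalkModule F hxU
  letI := QCoh.stalkModule F hx'U
  haveI hl := QCoh.isLocalizedModule_germLin hF.1 hU hxU
  haveI hl' := QCoh.isLocalizedModule_germLin hF.1 hU hx'U
  have hgerm : ∀ (r : Γ(X, U)) (n : N), r • n = X.presheaf.germ U x hxU r • n := fun _ _ => rfl
  have hgerm' : ∀ (r : Γ(X, U)) (n : N'), r • n = X.presheaf.germ U x' hx'U r • n := fun _ _ => rfl
  have hle : (hU.primeIdealOf ⟨x', hx'U⟩).asIdeal.primeCompl.map (X.presheaf.germ U x hxU).hom ≤ W := by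
    rintro _ ⟨t, ht, rfl⟩
    show IsUnit (φ (X.presheaf.germ U x hxU t))
    rw [hφ]
    letI := TopCat.Presheaf.algebra_section_stalk X.presheaf (⟨x', hx'U⟩ : U)
    haveI := hU.isLocalization_stalk ⟨x', hx'U⟩
    exact IsLocalization.map_units S' (⟨t, ht⟩ : (hU.primeIdealOf ⟨x', hx'U⟩).asIdeal.primeCompl)
  haveI : IsLocalizedModule W g := by
    refine ⟨fun w => ?_, fun z => ?_, fun {n₁ n₂} he => ?_⟩
    · rw [Module.End.isUnit_iff]
      obtain ⟨v, hv⟩ : IsUnit (φ w) := w.2
      refine Function.bijective_iff_has_inverse.2 ⟨fun n => (↑v⁻¹ : S') • n, fun n => ?_, fun n => ?_⟩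
      · show (↑v⁻¹ : S') • φ w • n = n
        rw [smul_smul, ← hv, Units.inv_mul, one_smul]
      · show φ w • (↑v⁻¹ : S') • n = n
        rw [smul_smul, ← hv, Units.mul_inv, one_smul]
    · obtain ⟨⟨m, t⟩, hmt⟩ := hl'.surj z
      refine ⟨(F.presheaf.germ U x hxU m, ⟨X.presheaf.germ U x hxU t, hle ⟨t, t.2, rfl⟩⟩), ?_⟩
      show φ (X.presheaf.germ U x hxU t) • z = F.presheaf.stalkSpecializes h (F.presheaf.germ U x hxU m)
      rw [hφ, hg0]
      exact hmt
    · obtain ⟨⟨m₁, s₁⟩, h₁⟩ := hl.surj n₁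
      obtain ⟨⟨m₂, s₂⟩, h₂⟩ := hl.surj n₂
      have e1 : X.presheaf.germ U x hxU s₁ • n₁ = F.presheaf.germ U x hxU m₁ := h₁
      have e2 : X.presheaf.germ U x hxU s₂ • n₂ = F.presheaf.germ U x hxU m₂ := h₂
      have g1 : X.presheaf.germ U x' hx'U s₁ • g n₁ = F.presheaf.germ U x' hx'U m₁ := by
        rw [← hg0, ← e1, ← hφ]
        exact (g.map_smul _ _).symm
      have g2 : X.presheaf.germ U x' hx'U s₂ • g n₂ = F.presheaf.germ U x' hx'U m₂ := by
        rw [← hg0, ← e2, ← hφ]
        exact (g.map_smul _ _).symm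
      have e3 : QCoh.germLin F hx'U ((s₂ : Γ(X, U)) • m₁) = QCoh.germLin F hx'U ((s₁ : Γ(X, U)) • m₂) := by
        rw [map_smul, map_smul]
        show X.presheaf.germ U x' hx'U s₂ • F.presheaf.germ U x' hx'U m₁ =
          X.presheaf.germ U x' hx'U s₁ • F.presheaf.germ U x' hx'U m₂
        rw [← g1, ← g2, show g n₁ = g n₂ from he, smul_comm]
      obtain ⟨t, ht⟩ := hl'.exists_of_eq e3
      have e4 := congrArg (QCoh.germLin F hxU) ht
      simp only [Submonoid.smul_def, map_smul, hgerm] at e4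
      rw [show QCoh.germLin F hxU m₁ = X.presheaf.germ U x hxU s₁ • n₁ from e1.symm,
        show QCoh.germLin F hxU m₂ = X.presheaf.germ U x hxU s₂ • n₂ from e2.symm] at e4
      have hs : ∀ s : (hU.primeIdealOf ⟨x, hxU⟩).asIdeal.primeCompl,
          X.presheaf.germ U x hxU s ∈ W := fun s => by
        letI := TopCat.Presheaf.algebra_section_stalk X.presheaf (⟨x, hxU⟩ : U)
        haveI := hU.isLocalization_stalk ⟨x, hxU⟩
        exact (IsLocalization.map_units S s).map φ
      refine ⟨⟨X.presheaf.germ U x hxU t * (X.presheaf.germ U x hxU s₂ * X.presheaf.germ U x hxU s₁),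
        mul_mem (hle ⟨t, t.2, rfl⟩) (mul_mem (hs s₂) (hs s₁))⟩, ?_⟩
      rw [Submonoid.smul_def, Submonoid.smul_def]
      dsimp only
      rw [mul_smul, mul_smul, e4, mul_comm (X.presheaf.germ U x hxU s₂) (X.presheaf.germ U x hxU s₁), mul_smul, mul_smul]
  have hK : RingHom.ker (𝓘.subschemeι.stalkMap a).hom =
      (RingHom.ker (𝓘.subschemeι.stalkMap b).hom).map (algebraMap S S') := by
    rw [RegConormal.ker_stalkMap_eq_map 𝓘.subschemeι a ⟨U, hU⟩ hx'U
        (IsZariskiLocalAtTarget.restrict (P := @IsClosedImmersion) inferInstance U),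
      RegConormal.ker_stalkMap_eq_map 𝓘.subschemeι b ⟨U, hU⟩ hxU
        (IsZariskiLocalAtTarget.restrict (P := @IsClosedImmersion) inferInstance U), Ideal.map_map]
    congr 1
    exact RingHom.ext fun r => (hφ r).symm
  haveI : Module.Finite S N := QCoh.finite_stalk_of_isFT hF.1 hF.2 x
  haveI : Module.Finite S' N' := QCoh.finite_stalk_of_isFT hF.1 hF.2 x'
  funext i
  exact mu_localized _ (ker_stalkMap_le 𝓘 b) (hnf b) W g _ hK (ker_stalkMap_le 𝓘 a) i

end Groth.Agent.NFHilb6
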